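import Cfsg.Agent.H910.Decomp
import Cfsg.Agent.LieClassical.SympPerfect
import Cfsg.Agent.H940.MaxCls

/-!
# Five classes of maximal subgroups of `PSp_4(q)`, `q ≥ 4` even (helper889, row of S5906 and S5907)

The stabilisers of a point, of a totally isotropic line, of `{U, U^⊥}` and the orthogonal groups of the two types.
-/

set_option autoImplicit false
set_option linter.unusedSectionVars false
set_option linter.unusedSimpArgs false
open Cfsg
open scoped Matrix MatrixGroups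

namespace Cfsg.Agent.H889.SepSp

open Cfsg.Agent.ClassicalGeometry.SympBasic Cfsg.Agent.H876 Cfsg.Agent.S5652 Cfsg.Agent.H910
open Cfsg.Agent.H940.MaxCls

variable {F : Type*} [Field F]

local notation "VV" => (Fin 2 ⊕ Fin 2 → F)

/-! ### coordinates -/

theorem form_eq (u v : VV) : sympForm 2 F u v =
    (u (Sum.inr 0) * v (Sum.inl 0) - u (Sum.inl 0) * v (Sum.inr 0)) +
      (u (Sum.inr 1) * v (Sum.inl 1) - u (Sum.inl 1) * v (Sum.inr 1)) := by
  rw [sympForm_eq_sum, Fin.sum_univ_two]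

/-- the vector with given coordinates -/
def vec (a b c d : F) : VV := Sum.elim ![a, b] ![c, d]

@[simp] theorem vec_l0 (a b c d : F) : vec a b c d (Sum.inl 0) = a := rfl
@[simp] theorem vec_l1 (a b c d : F) : vec a b c d (Sum.inl 1) = b := rfl
@[simp] theorem vec_r0 (a b c d : F) : vec a b c d (Sum.inr 0) = c := rfl
@[simp] theorem vec_r1 (a b c d : F) : vec a b c d (Sum.inr 1) = d := rfl

theorem vec_ext {u v : VV} (h0 : u (Sum.inl 0) = v (Sum.inl 0)) (h1 : u (Sum.inl 1) = v (Sum.inl 1))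
    (h2 : u (Sum.inr 0) = v (Sum.inr 0)) (h3 : u (Sum.inr 1) = v (Sum.inr 1)) : u = v := by
  funext i
  rcases i with i | i <;> fin_cases i
  · exact h0
  · exact h1
  · exact h2
  · exact h3

/-! ### the quadratic forms -/

/-- `x₀ y₀ + c x₁² + x₁ y₁ + b y₁²` -/
def Qf (c b : F) (v : VV) : F :=
  v (Sum.inl 0) * v (Sum.inr 0) + (c * v (Sum.inl 1) ^ 2 + v (Sum.inl 1) * v (Sum.inr 1) + b * v (Sum.inr 1) ^ 2)

theorem polar_Qf [CharP F 2] (c b : F) (u v : VV) : QuadraticMap.polar (Qf c b) u v = sympForm 2 F u v := by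
  rw [form_eq, QuadraticMap.polar]
  simp only [Qf, Pi.add_apply]
  have h2 : (2 : F) = 0 := CharTwo.two_eq_zero
  linear_combination (u (Sum.inl 0) * v (Sum.inr 0) + u (Sum.inl 1) * v (Sum.inr 1) +
    c * u (Sum.inl 1) * v (Sum.inl 1) + b * u (Sum.inr 1) * v (Sum.inr 1)) * h2

theorem nondeg_Qf [CharP F 2] (c b : F) : Cfsg.Geo.IsNondegenerateQuadraticForm (Qf c b) where
  smul a v := by
    simp only [Qf, Pi.smul_apply, smul_eq_mul]
    ring
  polar_bilinear := by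
    have h : QuadraticMap.polar (Qf c b) = sympForm 2 F := by
      funext u v
      exact polar_Qf c b u v
    rw [h]
    exact
      { add_left := fun x y v => sympForm_add_left x y v
        smul_left := fun a x v => sympForm_smul_left a x v
        add_right := fun v x y => sympForm_add_right v x y
        smul_right := fun a v x => sympForm_smul_right a v x }
  nondegenerate := by
    have h : QuadraticMap.polar (Qf c b) = sympForm 2 F := by
      funext u v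
      exact polar_Qf c b u v
    rw [h]
    intro v hv
    obtain ⟨w, hw⟩ := exists_partner hv
    exact ⟨⟨w, by rw [sympForm_swap, hw]; exact neg_ne_zero.2 one_ne_zero⟩, w, by rw [hw]; exact one_ne_zero⟩

/-! ### the subgroups -/

/-- the stabiliser of a subspace -/
noncomputable def stS (W : Submodule F VV) : Subgroup (GL (Fin 2 ⊕ Fin 2) F) :=
  Cfsg.Geo.subspaceStabilizer W ⊓ spGL 2 F

theorem UU_stS {W : Submodule F VV} {v : VV} :
    UU (stS W) v ↔ v ∈ W ∨ ∀ w ∈ W, sympForm 2 F w v = 0 := by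
  constructor
  · intro h
    by_cases hv : v ∈ W
    · exact Or.inl hv
    · refine Or.inr fun w hw => ?_
      have h1 := (mem_subspaceStabilizer_iff.1 (h 1).1 w).1 hw
      rw [tGL_mulVec, one_mul] at h1
      have h2 : sympForm 2 F w v • v ∈ W := by
        have := W.sub_mem h1 hw
        rwa [add_sub_cancel_left] at this
      by_contra hne
      exact hv ((W.smul_mem_iff hne).1 h2)
  · rintro (hv | hv) c
    · refine ⟨mem_subspaceStabilizer_of_le fun w hw => ?_, tGL_mem _ _⟩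
      rw [tGL_mulVec]
      exact W.add_mem hw (W.smul_mem _ hv)
    · refine ⟨mem_subspaceStabilizer_of_le fun w hw => ?_, tGL_mem _ _⟩
      rw [tGL_mulVec, hv w hw, mul_zero, zero_smul, add_zero]
      exact hw

/-- the point -/
def W1 (F : Type*) [Field F] : Submodule F (Fin 2 ⊕ Fin 2 → F) where
  carrier := {v | v (Sum.inl 1) = 0 ∧ v (Sum.inr 0) = 0 ∧ v (Sum.inr 1) = 0}
  add_mem' := by
    rintro a b ⟨h1, h2, h3⟩ ⟨h4, h5, h6⟩
    exact ⟨by rw [Pi.add_apply, h1, h4, add_zero], by rw [Pi.add_apply, h2, h5, add_zero],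
      by rw [Pi.add_apply, h3, h6, add_zero]⟩
  zero_mem' := ⟨rfl, rfl, rfl⟩
  smul_mem' := by
    rintro c a ⟨h1, h2, h3⟩
    exact ⟨by rw [Pi.smul_apply, h1, smul_zero], by rw [Pi.smul_apply, h2, smul_zero],
      by rw [Pi.smul_apply, h3, smul_zero]⟩

/-- the totally isotropic line -/
def W2 (F : Type*) [Field F] : Submodule F (Fin 2 ⊕ Fin 2 → F) where
  carrier := {v | v (Sum.inr 0) = 0 ∧ v (Sum.inr 1) = 0}
  add_mem' := by
    rintro a b ⟨h2, h3⟩ ⟨h5, h6⟩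
    exact ⟨by rw [Pi.add_apply, h2, h5, add_zero], by rw [Pi.add_apply, h3, h6, add_zero]⟩
  zero_mem' := ⟨rfl, rfl⟩
  smul_mem' := by
    rintro c a ⟨h2, h3⟩
    exact ⟨by rw [Pi.smul_apply, h2, smul_zero], by rw [Pi.smul_apply, h3, smul_zero]⟩

/-- the coordinate plane `i` -/
def DD (F : Type*) [Field F] (i : Fin 2) : Submodule F (Fin 2 ⊕ Fin 2 → F) where
  carrier := {v | ∀ j, j ≠ i → v (Sum.inl j) = 0 ∧ v (Sum.inr j) = 0}
  add_mem' := by
    intro a b h1 h2 j hj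
    exact ⟨by rw [Pi.add_apply, (h1 j hj).1, (h2 j hj).1, add_zero],
      by rw [Pi.add_apply, (h1 j hj).2, (h2 j hj).2, add_zero]⟩
  zero_mem' := fun _ _ => ⟨rfl, rfl⟩
  smul_mem' := by
    intro c a h j hj
    exact ⟨by rw [Pi.smul_apply, (h j hj).1, smul_zero], by rw [Pi.smul_apply, (h j hj).2, smul_zero]⟩

theorem mem_W1 {v : VV} : v ∈ W1 F ↔ v (Sum.inl 1) = 0 ∧ v (Sum.inr 0) = 0 ∧ v (Sum.inr 1) = 0 := Iff.rfl
theorem mem_W2 {v : VV} : v ∈ W2 F ↔ v (Sum.inr 0) = 0 ∧ v (Sum.inr 1) = 0 := Iff.rfl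
theorem mem_D0 {v : VV} : v ∈ DD F 0 ↔ v (Sum.inl 1) = 0 ∧ v (Sum.inr 1) = 0 := by
  constructor
  · intro h; exact h 1 (by decide)
  · intro h j hj
    fin_cases j
    · exact absurd rfl hj
    · exact h
theorem mem_D1 {v : VV} : v ∈ DD F 1 ↔ v (Sum.inl 0) = 0 ∧ v (Sum.inr 0) = 0 := by
  constructor
  · intro h; exact h 0 (by decide)
  · intro h j hj
    fin_cases j
    · exact h
    · exact absurd rfl hj

theorem W1_ts : Cfsg.Geo.IsTotallySingularFor (sympForm 2 F) (W1 F) := by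
  rintro u ⟨h1, h2, h3⟩ v ⟨h4, h5, h6⟩
  rw [form_eq, h1, h2, h3, h4, h5, h6]
  ring

theorem W2_ts : Cfsg.Geo.IsTotallySingularFor (sympForm 2 F) (W2 F) := by
  rintro u ⟨h2, h3⟩ v ⟨h5, h6⟩
  rw [form_eq, h2, h3, h5, h6]
  ring

theorem W1_ne : W1 F ≠ ⊥ := by
  intro h
  have h1 : vec (1 : F) 0 0 0 ∈ W1 F := ⟨rfl, rfl, rfl⟩
  rw [h, Submodule.mem_bot] at h1
  exact one_ne_zero (congrFun h1 (Sum.inl 0))

theorem W2_ne : W2 F ≠ ⊥ := by
  intro h
  have h1 : vec (1 : F) 0 0 0 ∈ W2 F := ⟨rfl, rfl⟩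
  rw [h, Submodule.mem_bot] at h1
  exact one_ne_zero (congrFun h1 (Sum.inl 0))

theorem finrank_DD (i : Fin 2) : Module.finrank F (DD F i) = 2 := by
  let e : DD F i ≃ₗ[F] (Fin 2 → F) :=
    { toFun := fun v => ![v.1 (Sum.inl i), v.1 (Sum.inr i)]
      map_add' := by
        intro a b
        ext j
        fin_cases j <;> rfl
      map_smul' := by
        intro c a
        ext j
        fin_cases j <;> rfl
      invFun := fun x => ⟨Sum.elim (Pi.single i (x 0)) (Pi.single i (x 1)), fun j hj => by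
        constructor
        · exact Pi.single_eq_of_ne hj _
        · exact Pi.single_eq_of_ne hj _⟩
      left_inv := by
        rintro ⟨v, hv⟩
        apply Subtype.ext
        funext j
        rcases j with j | j
        · by_cases hj : j = i
          · subst hj
            simp
          · simp [Pi.single_eq_of_ne hj, (hv j hj).1]
        · by_cases hj : j = i
          · subst hj
            simp
          · simp [Pi.single_eq_of_ne hj, (hv j hj).2]
      right_inv := by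
        intro x
        ext j
        fin_cases j <;> simp }
  rw [e.finrank_eq]
  simp

theorem DD_nondeg : Cfsg.Geo.IsNondegenerateMDecomposition (sympForm 2 F) 2 (DD F) where
  decomp :=
    { two_le := le_rfl
      pos := by norm_num
      finrank_eq := finrank_DD
      indep := by
        rw [iSupIndep_pair (i := (0 : Fin 2)) (j := 1) (by decide) (by decide), Submodule.disjoint_def]
        intro v h0 h1
        rw [mem_D0] at h0
        rw [mem_D1] at h1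
        exact vec_ext h1.1 h0.1 h1.2 h0.2
      iSup_eq_top := by
        rw [eq_top_iff]
        intro v _
        have e : v = vec (v (Sum.inl 0)) 0 (v (Sum.inr 0)) 0 + vec 0 (v (Sum.inl 1)) 0 (v (Sum.inr 1)) :=
          vec_ext (by simp) (by simp) (by simp) (by simp)
        rw [e]
        refine Submodule.add_mem _ (Submodule.mem_iSup_of_mem 0 (mem_D0.2 ⟨rfl, rfl⟩))
          (Submodule.mem_iSup_of_mem 1 (mem_D1.2 ⟨rfl, rfl⟩)) }
  nondegenerate := by
    have key : ∀ i : Fin 2, ∀ w ∈ DD F i, w ≠ 0 → ∃ x ∈ DD F i, sympForm 2 F w x ≠ 0 := by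
      intro i w hw hw0
      have h1 : w (Sum.inl i) ≠ 0 ∨ w (Sum.inr i) ≠ 0 := by
        by_contra hc
        push Not at hc
        refine hw0 (funext fun j => ?_)
        rcases j with j | j
        · by_cases hj : j = i
          · subst hj; exact hc.1
          · exact (hw j hj).1
        · by_cases hj : j = i
          · subst hj; exact hc.2
          · exact (hw j hj).2
      rcases h1 with h1 | h1
      · refine ⟨Pi.single (Sum.inr i) 1, fun j hj => ⟨by simp, by simp [Pi.single_apply, hj]⟩, ?_⟩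
        rw [sympForm_single_inr_right]
        exact neg_ne_zero.2 h1
      · refine ⟨Pi.single (Sum.inl i) 1, fun j hj => ⟨by simp [Pi.single_apply, hj], by simp⟩, ?_⟩
        rw [sympForm_single_inl_right]
        exact h1
    intro i w hw hw0
    obtain ⟨x, hx, h⟩ := key i w hw hw0
    exact ⟨⟨x, hx, by rw [sympForm_swap]; exact neg_ne_zero.2 h⟩, x, hx, h⟩
  orthogonal := by
    intro i j hij u hu v hv
    rw [form_eq]
    fin_cases i <;> fin_cases j
    · exact absurd rfl hij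
    · have h1 := mem_D0.1 hu
      have h2 := mem_D1.1 hv
      rw [h1.1, h1.2, h2.1, h2.2]; ring
    · have h1 := mem_D1.1 hu
      have h2 := mem_D0.1 hv
      rw [h1.1, h1.2, h2.1, h2.2]; ring
    · exact absurd rfl hij

/-- the stabiliser of the decomposition -/
noncomputable def stD (F : Type*) [Field F] : Subgroup (GL (Fin 2 ⊕ Fin 2) F) :=
  Cfsg.Geo.decompositionStabilizer (DD F) ⊓ spGL 2 F

/-- the orthogonal group -/
noncomputable def stQ (c b : F) : Subgroup (GL (Fin 2 ⊕ Fin 2) F) :=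
  Cfsg.Geo.quadSimilarityGroup (Qf c b) ⊓ spGL 2 F

theorem mem_stD_of {g : GL (Fin 2 ⊕ Fin 2) F} (hg : g ∈ spGL 2 F)
    (h : ∀ i, ∀ v ∈ DD F i, (g : Matrix (Fin 2 ⊕ Fin 2) (Fin 2 ⊕ Fin 2) F) *ᵥ v ∈ DD F i) : g ∈ stD F := by
  refine ⟨⟨1, fun i => ?_⟩, hg⟩
  refine Submodule.eq_of_le_of_finrank_eq ?_ ?_
  · rintro _ ⟨v, hv, rfl⟩
    exact h i v hv
  · have hinj : Function.Injective (Matrix.toLin' (g : Matrix (Fin 2 ⊕ Fin 2) (Fin 2 ⊕ Fin 2) F)) := by
      intro x y hxy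
      have h1 : (g : Matrix (Fin 2 ⊕ Fin 2) (Fin 2 ⊕ Fin 2) F) *ᵥ x =
          (g : Matrix (Fin 2 ⊕ Fin 2) (Fin 2 ⊕ Fin 2) F) *ᵥ y := hxy
      have h2 := congrArg (fun z => ((g⁻¹ : GL (Fin 2 ⊕ Fin 2) F) : Matrix (Fin 2 ⊕ Fin 2) (Fin 2 ⊕ Fin 2) F) *ᵥ z) h1
      simpa [Matrix.mulVec_mulVec] using h2
    exact (Submodule.equivMapOfInjective _ hinj _).finrank_eq.symm

theorem UU_stD {i : Fin 2} {v : VV} (hv : v ∈ DD F i) : UU (stD F) v := by
  intro c
  refine mem_stD_of (tGL_mem _ _) fun j w hw => ?_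
  rw [tGL_mulVec]
  by_cases hij : j = i
  · subst hij
    exact Submodule.add_mem _ hw (Submodule.smul_mem _ _ hv)
  · have : sympForm 2 F w v = 0 := DD_nondeg.orthogonal j i hij w hw v hv
    rw [this, mul_zero, zero_smul, add_zero]
    exact hw

theorem not_UU_stD : ¬ UU (stD F) (vec 1 1 0 0) := by
  intro h
  have h1 := h 1
  obtain ⟨⟨σ, hσ⟩, -⟩ := h1
  have hw : vec (0 : F) 0 1 0 ∈ DD F 0 := mem_D0.2 ⟨rfl, rfl⟩
  have h2 : Matrix.toLin' ((tGL (vec 1 1 0 0) (1 : F) : GL _ F) : Matrix _ _ F) (vec 0 0 1 0) ∈ DD F (σ 0) := by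
    rw [← hσ 0]
    exact Submodule.mem_map_of_mem hw
  rw [Matrix.toLin'_apply, tGL_mulVec] at h2
  have h3 : σ 0 = 0 ∨ σ 0 = 1 := by
    generalize σ 0 = i
    fin_cases i
    · exact Or.inl rfl
    · exact Or.inr rfl
  rcases h3 with h3 | h3
  · rw [h3, mem_D0, form_eq] at h2
    simp at h2
  · rw [h3, mem_D1, form_eq] at h2
    simp at h2

theorem UU_stQ [Finite F] [CharP F 2] (h3 : 3 ≤ Nat.card F) {c b : F} {v : VV} (h : UU (stQ c b) v) : v = 0 := by
  by_contra hv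
  have key : ∀ d : F, d ≠ 0 → d * Qf c b v = 1 := by
    intro d hd
    have h1 := of_tGL_mem_quad (by norm_num) (nondeg_Qf c b) (polar_Qf c b) hv d (h d)
    have h2 : d * (d * Qf c b v - 1) = 0 := by
      have h4 : (2 : F) = 0 := CharTwo.two_eq_zero
      linear_combination h1 - d * h4
    exact sub_eq_zero.1 ((mul_eq_zero.1 h2).resolve_left hd)
  have h1 := key 1 one_ne_zero
  rw [one_mul] at h1
  have hall : ∀ d : F, d = 0 ∨ d = 1 := by
    intro d
    by_cases hd : d = 0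
    · exact Or.inl hd
    · right
      have := key d hd
      rwa [h1, mul_one] at this
  have hfin : Fintype F := Fintype.ofFinite F
  classical
  have h2 : (Finset.univ : Finset F) ⊆ {0, 1} := by
    intro d _
    rcases hall d with h | h <;> simp [h]
  have h5 := Finset.card_le_card h2
  rw [Finset.card_univ, ← Nat.card_eq_fintype_card] at h5
  have h6 : ({0, 1} : Finset F).card ≤ 2 := Finset.card_le_two
  omega

/-! ### invariants of conjugacy -/

/-- `K = g H g⁻¹` -/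
def Cj (g : GL (Fin 2 ⊕ Fin 2) F) (H K : Subgroup (GL (Fin 2 ⊕ Fin 2) F)) : Prop :=
  ∀ x, x ∈ K ↔ g⁻¹ * x * g ∈ H

theorem Cj.tGL {g : GL (Fin 2 ⊕ Fin 2) F} (hg : g ∈ spGL 2 F) {H K : Subgroup (GL (Fin 2 ⊕ Fin 2) F)}
    (h : Cj g H K) (v : VV) (c : F) : tGL ((g : Matrix (Fin 2 ⊕ Fin 2) (Fin 2 ⊕ Fin 2) F) *ᵥ v) c ∈ K ↔ tGL v c ∈ H := by
  rw [h, ← conj_tGL hg]
  have : g⁻¹ * (g * H876.tGL v c * g⁻¹) * g = H876.tGL v c := by group
  rw [this]

theorem Cj.UU {g : GL (Fin 2 ⊕ Fin 2) F} (hg : g ∈ spGL 2 F) {H K : Subgroup (GL (Fin 2 ⊕ Fin 2) F)}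
    (h : Cj g H K) (v : VV) : H910.UU K ((g : Matrix (Fin 2 ⊕ Fin 2) (Fin 2 ⊕ Fin 2) F) *ᵥ v) ↔ H910.UU H v :=
  forall_congr' fun c => h.tGL hg v c

theorem Cj.exists_pre {g : GL (Fin 2 ⊕ Fin 2) F} (hg : g ∈ spGL 2 F) {H K : Subgroup (GL (Fin 2 ⊕ Fin 2) F)}
    (h : Cj g H K) {v : VV} (hv : H910.UU K v) : ∃ u, v = (g : Matrix (Fin 2 ⊕ Fin 2) (Fin 2 ⊕ Fin 2) F) *ᵥ u ∧ H910.UU H u := by
  refine ⟨((g⁻¹ : GL (Fin 2 ⊕ Fin 2) F) : Matrix (Fin 2 ⊕ Fin 2) (Fin 2 ⊕ Fin 2) F) *ᵥ v, (mulVec_inv_cancel g v).symm, ?_⟩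
  rw [← h.UU hg, mulVec_inv_cancel]
  exact hv

/-- a non-zero vector with all its transvections -/
def IA (H : Subgroup (GL (Fin 2 ⊕ Fin 2) F)) : Prop := ∃ v, v ≠ 0 ∧ H910.UU H v
/-- closed under addition -/
def IB (H : Subgroup (GL (Fin 2 ⊕ Fin 2) F)) : Prop :=
  ∀ u v, H910.UU H u → H910.UU H v → H910.UU H (u + v)
/-- a hyperbolic pair -/
def IC (H : Subgroup (GL (Fin 2 ⊕ Fin 2) F)) : Prop :=
  ∃ u v, H910.UU H u ∧ H910.UU H v ∧ sympForm 2 F u v ≠ 0

section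
variable {g : GL (Fin 2 ⊕ Fin 2) F} (hg : g ∈ spGL 2 F) {H K : Subgroup (GL (Fin 2 ⊕ Fin 2) F)} (h : Cj g H K)
include hg h

theorem Cj.IA_of (hK : IA K) : IA H := by
  obtain ⟨v, hv0, hv⟩ := hK
  obtain ⟨u, hu1, hu⟩ := h.exists_pre hg hv
  exact ⟨u, fun h0 => hv0 (by rw [hu1, h0]; exact Matrix.mulVec_zero _), hu⟩

theorem Cj.IA_to (hH : IA H) : IA K := by
  obtain ⟨v, hv0, hv⟩ := hH
  refine ⟨(g : Matrix (Fin 2 ⊕ Fin 2) (Fin 2 ⊕ Fin 2) F) *ᵥ v, fun h0 => hv0 ?_, (h.UU hg v).2 hv⟩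
  have := congrArg (fun z => ((g⁻¹ : GL (Fin 2 ⊕ Fin 2) F) : Matrix (Fin 2 ⊕ Fin 2) (Fin 2 ⊕ Fin 2) F) *ᵥ z) h0
  simpa [Matrix.mulVec_mulVec] using this

theorem Cj.IB_of (hK : IB K) : IB H := by
  intro u v hu hv
  rw [← h.UU hg, Matrix.mulVec_add]
  exact hK _ _ ((h.UU hg u).2 hu) ((h.UU hg v).2 hv)

theorem Cj.IB_to (hH : IB H) : IB K := by
  intro u v hu hv
  obtain ⟨u', hu1, hu2⟩ := h.exists_pre hg hu
  obtain ⟨v', hv1, hv2⟩ := h.exists_pre hg hv
  rw [hu1, hv1, ← Matrix.mulVec_add, h.UU hg]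
  exact hH _ _ hu2 hv2

theorem Cj.IC_of (hK : IC K) : IC H := by
  obtain ⟨u, v, hu, hv, huv⟩ := hK
  obtain ⟨u', hu1, hu2⟩ := h.exists_pre hg hu
  obtain ⟨v', hv1, hv2⟩ := h.exists_pre hg hv
  rw [hu1, hv1, sp_form hg] at huv
  exact ⟨u', v', hu2, hv2, huv⟩

theorem Cj.IC_to (hH : IC H) : IC K := by
  obtain ⟨u, v, hu, hv, huv⟩ := hH
  refine ⟨_, _, (h.UU hg u).2 hu, (h.UU hg v).2 hv, ?_⟩
  rwa [sp_form hg]

end

theorem UU_W1 {v : VV} : H910.UU (stS (W1 F)) v ↔ v (Sum.inr 0) = 0 := by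
  rw [UU_stS]
  constructor
  · rintro (h | h)
    · exact h.2.1
    · have := h (vec 1 0 0 0) ⟨rfl, rfl, rfl⟩
      rw [form_eq] at this
      simpa using this
  · intro h
    right
    rintro w ⟨h1, h2, h3⟩
    rw [form_eq, h1, h2, h3, h]
    ring

theorem UU_W2 {v : VV} : H910.UU (stS (W2 F)) v ↔ v ∈ W2 F := by
  rw [UU_stS]
  constructor
  · rintro (h | h)
    · exact h
    · have h1 := h (vec 1 0 0 0) ⟨rfl, rfl⟩
      have h2 := h (vec 0 1 0 0) ⟨rfl, rfl⟩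
      rw [form_eq] at h1 h2
      exact ⟨by simpa using h1, by simpa using h2⟩
  · exact Or.inl

theorem IA_W1 : IA (stS (W1 F)) := by
  refine ⟨vec 1 0 0 0, fun h => one_ne_zero (congrFun h (Sum.inl 0)), UU_W1.2 rfl⟩
theorem IA_W2 : IA (stS (W2 F)) := by
  refine ⟨vec 1 0 0 0, fun h => one_ne_zero (congrFun h (Sum.inl 0)), UU_W2.2 ⟨rfl, rfl⟩⟩
theorem IA_D : IA (stD F) := by
  refine ⟨vec 1 0 0 0, fun h => one_ne_zero (congrFun h (Sum.inl 0)), UU_stD (mem_D0.2 ⟨rfl, rfl⟩)⟩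
theorem IB_W1 : IB (stS (W1 F)) := by
  intro u v hu hv
  rw [UU_W1] at *
  rw [Pi.add_apply, hu, hv, add_zero]
theorem IB_W2 : IB (stS (W2 F)) := by
  intro u v hu hv
  rw [UU_W2] at *
  exact Submodule.add_mem _ hu hv
theorem not_IB_D : ¬ IB (stD F) := by
  intro h
  refine not_UU_stD (F := F) ?_
  have h1 := h (vec 1 0 0 0) (vec 0 1 0 0) (UU_stD (mem_D0.2 ⟨rfl, rfl⟩)) (UU_stD (mem_D1.2 ⟨rfl, rfl⟩))
  have e : vec (1 : F) 0 0 0 + vec 0 1 0 0 = vec 1 1 0 0 := vec_ext (by simp) (by simp) (by simp) (by simp)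
  rwa [e] at h1
theorem IC_W1 : IC (stS (W1 F)) := by
  refine ⟨vec 0 1 0 0, vec 0 0 0 1, UU_W1.2 rfl, UU_W1.2 rfl, ?_⟩
  rw [form_eq]
  simp
theorem not_IC_W2 : ¬ IC (stS (W2 F)) := by
  rintro ⟨u, v, hu, hv, huv⟩
  exact huv (W2_ts u (UU_W2.1 hu) v (UU_W2.1 hv))

theorem not_IA_Q [Finite F] [CharP F 2] (h3 : 3 ≤ Nat.card F) (c b : F) : ¬ IA (stQ c b) := by
  rintro ⟨v, hv, h⟩
  exact hv (UU_stQ h3 h)

/-- the two types of quadratic forms -/
theorem not_Cj_Q [Finite F] [CharP F 2] {b : F} (hb : ∀ z : F, z ^ 2 + z ≠ b) {g : GL (Fin 2 ⊕ Fin 2) F}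
    (hg : g ∈ spGL 2 F) : ¬ Cj g (stQ 0 0) (stQ 1 b) := by
  intro h
  have h2 : (2 : F) = 0 := CharTwo.two_eq_zero
  have hinj : ∀ v : VV, (g : Matrix (Fin 2 ⊕ Fin 2) (Fin 2 ⊕ Fin 2) F) *ᵥ v = 0 → v = 0 := by
    intro v h0
    have := congrArg (fun z => ((g⁻¹ : GL (Fin 2 ⊕ Fin 2) F) : Matrix (Fin 2 ⊕ Fin 2) (Fin 2 ⊕ Fin 2) F) *ᵥ z) h0
    simpa [Matrix.mulVec_mulVec] using this
  -- isotropic vectors are mapped to isotropic vectors
  have hs : ∀ v : VV, Qf 0 0 v = 0 → Qf 1 b ((g : Matrix (Fin 2 ⊕ Fin 2) (Fin 2 ⊕ Fin 2) F) *ᵥ v) = 0 := by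
    intro v hv
    by_contra hne
    have hv0 : v ≠ 0 := by
      rintro rfl
      rw [Matrix.mulVec_zero] at hne
      exact hne (by simp [Qf])
    have h1 : tGL ((g : Matrix (Fin 2 ⊕ Fin 2) (Fin 2 ⊕ Fin 2) F) *ᵥ v) (Qf 1 b ((g : Matrix (Fin 2 ⊕ Fin 2) (Fin 2 ⊕ Fin 2) F) *ᵥ v))⁻¹ ∈ stQ 1 b := by
      refine tGL_mem_quad (by norm_num) (nondeg_Qf 1 b) (polar_Qf 1 b) _ _ ?_
      field_simp
      linear_combination h2
    rw [h.tGL hg] at h1
    have h3 := of_tGL_mem_quad (by norm_num) (nondeg_Qf 0 0) (polar_Qf 0 0) hv0 _ h1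
    rw [hv, mul_zero, add_zero] at h3
    exact inv_ne_zero hne h3
  set u := (g : Matrix (Fin 2 ⊕ Fin 2) (Fin 2 ⊕ Fin 2) F) *ᵥ vec 1 0 0 0 with hu
  set v := (g : Matrix (Fin 2 ⊕ Fin 2) (Fin 2 ⊕ Fin 2) F) *ᵥ vec 0 1 0 0 with hv
  have hsing : ∀ x y : F, Qf 1 b (x • u + y • v) = 0 := by
    intro x y
    have e : x • u + y • v = (g : Matrix (Fin 2 ⊕ Fin 2) (Fin 2 ⊕ Fin 2) F) *ᵥ vec x y 0 0 := by
      have : vec x y 0 0 = x • vec (1 : F) 0 0 0 + y • vec 0 1 0 0 :=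
        vec_ext (by simp) (by simp) (by simp) (by simp)
      rw [this, Matrix.mulVec_add, Matrix.mulVec_smul, Matrix.mulVec_smul]
    rw [e]
    exact hs _ (by simp [Qf])
  have hind : ∀ x y : F, x • u + y • v = 0 → x = 0 ∧ y = 0 := by
    intro x y hxy
    have e : x • u + y • v = (g : Matrix (Fin 2 ⊕ Fin 2) (Fin 2 ⊕ Fin 2) F) *ᵥ vec x y 0 0 := by
      have : vec x y 0 0 = x • vec (1 : F) 0 0 0 + y • vec 0 1 0 0 :=
        vec_ext (by simp) (by simp) (by simp) (by simp)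
      rw [this, Matrix.mulVec_add, Matrix.mulVec_smul, Matrix.mulVec_smul]
    rw [e] at hxy
    have := hinj _ hxy
    exact ⟨congrFun this (Sum.inl 0), congrFun this (Sum.inl 1)⟩
  -- anisotropic part
  have haniso : ∀ x y : F, x ^ 2 + x * y + b * y ^ 2 = 0 → x = 0 ∧ y = 0 := by
    intro x y hxy
    by_cases hy : y = 0
    · subst hy
      exact ⟨by simpa using hxy, rfl⟩
    · exfalso
      apply hb (x / y)
      field_simp
      linear_combination hxy - b * y ^ 2 * h2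
  -- a vector in the plane with vanishing coordinate
  have hcut : ∀ i : Fin 2 ⊕ Fin 2, ∃ x y : F, (x ≠ 0 ∨ y ≠ 0) ∧ (x • u + y • v) i = 0 := by
    intro i
    by_cases h0 : u i = 0 ∧ v i = 0
    · exact ⟨1, 0, Or.inl one_ne_zero, by simp [h0.1]⟩
    · refine ⟨v i, - u i, ?_, ?_⟩
      · by_contra hc
        push Not at hc
        exact h0 ⟨neg_eq_zero.1 hc.2, hc.1⟩
      · simp
        ring
  obtain ⟨x, y, hxy, he⟩ := hcut (Sum.inr 0)
  obtain ⟨x', y', hxy', he'⟩ := hcut (Sum.inl 0)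
  set e := x • u + y • v with hedef
  set f := x' • u + y' • v with hfdef
  have hne : e ≠ 0 := fun h0 => by
    obtain ⟨h1, h3⟩ := hind x y h0
    rcases hxy with h | h
    · exact h h1
    · exact h h3
  have hnf : f ≠ 0 := fun h0 => by
    obtain ⟨h1, h3⟩ := hind x' y' h0
    rcases hxy' with h | h
    · exact h h1
    · exact h h3
  have hQe : Qf 1 b e = 0 := hsing x y
  have hQf : Qf 1 b f = 0 := hsing x' y'
  have hQef : Qf 1 b (e + f) = 0 := by
    have : e + f = (x + x') • u + (y + y') • v := by rw [hedef, hfdef]; module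
    rw [this]
    exact hsing _ _
  obtain ⟨e1, e2⟩ := haniso (e (Sum.inl 1)) (e (Sum.inr 1)) (by
    simp only [Qf, he, mul_zero, zero_add, one_mul] at hQe
    exact hQe)
  obtain ⟨f1, f2⟩ := haniso (f (Sum.inl 1)) (f (Sum.inr 1)) (by
    simp only [Qf, he', zero_mul, zero_add, one_mul] at hQf
    exact hQf)
  have e0 : e (Sum.inl 0) ≠ 0 := fun h0 => hne (vec_ext h0 e1 he e2)
  have f0 : f (Sum.inr 0) ≠ 0 := fun h0 => hnf (vec_ext he' f1 h0 f2)
  simp only [Qf, Pi.add_apply, e1, e2, f1, f2, he, he', add_zero, zero_add, mul_zero, ne_eq,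
    OfNat.ofNat_ne_zero, not_false_eq_true, zero_pow] at hQef
  exact mul_ne_zero e0 f0 hQef

theorem exists_irred [Finite F] [CharP F 2] : ∃ b : F, ∀ z : F, z ^ 2 + z ≠ b := by
  by_contra hc
  push Not at hc
  have hs : Function.Surjective (fun z : F => z ^ 2 + z) := hc
  have hi := Finite.injective_iff_surjective.2 hs
  have h1 : (0 : F) = 1 := hi (by
    show (0 : F) ^ 2 + 0 = 1 ^ 2 + 1
    have h2 : (2 : F) = 0 := CharTwo.two_eq_zero
    linear_combination -h2)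
  exact zero_ne_one h1

/-! ### the classes -/

theorem isCoatom_of_max {G : Type*} [Group G] {K H : Subgroup G} (h : Cfsg.Geo.IsMaximalIn K (H ⊓ K)) :
    IsCoatom ((H ⊓ K).subgroupOf K) := by
  refine ⟨fun h1 => ?_, fun L hL => ?_⟩
  · rw [Subgroup.subgroupOf_eq_top] at h1
    exact (not_le_of_gt h.1) h1
  · have h1 : H ⊓ K ≤ L.map K.subtype := by
      intro x hx
      refine ⟨⟨x, hx.2⟩, hL.le ?_, rfl⟩
      rw [Subgroup.mem_subgroupOf]
      exact hx
    have h2 : L.map K.subtype ≤ K := by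
      rintro _ ⟨y, -, rfl⟩
      exact y.2
    rcases h.2 _ h1 h2 with h3 | h3
    · exfalso
      refine hL.not_ge fun y hy => ?_
      rw [Subgroup.mem_subgroupOf, ← h3]
      exact ⟨y, hy, rfl⟩
    · refine top_le_iff.1 fun y _ => ?_
      have h4 : (y : G) ∈ L.map K.subtype := by rw [h3]; exact y.2
      obtain ⟨z, hz, hzy⟩ := h4
      have : z = y := Subtype.ext hzy
      rw [← this]
      exact hz

theorem cj_of_map {H K : Subgroup (GL (Fin 2 ⊕ Fin 2) F)} {g : spGL 2 F}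
    (h : Subgroup.map (MulAut.conj g).toMonoidHom ((H ⊓ spGL 2 F).subgroupOf (spGL 2 F)) =
      (K ⊓ spGL 2 F).subgroupOf (spGL 2 F)) : Cj (g : GL (Fin 2 ⊕ Fin 2) F) (H ⊓ spGL 2 F) (K ⊓ spGL 2 F) := by
  intro x
  by_cases hx : x ∈ spGL 2 F
  · have h1 : (⟨x, hx⟩ : spGL 2 F) ∈ (K ⊓ spGL 2 F).subgroupOf (spGL 2 F) ↔
        g⁻¹ * ⟨x, hx⟩ * g ∈ (H ⊓ spGL 2 F).subgroupOf (spGL 2 F) := by
      rw [← h, mem_map_conj]
    rw [Subgroup.mem_subgroupOf, Subgroup.mem_subgroupOf] at h1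
    exact h1
  · constructor
    · intro h1
      exact absurd h1.2 hx
    · intro h1
      refine absurd ?_ hx
      have h2 := (spGL 2 F).mul_mem ((spGL 2 F).mul_mem g.2 h1.2) ((spGL 2 F).inv_mem g.2)
      have h3 : (g : GL (Fin 2 ⊕ Fin 2) F) * ((g : GL (Fin 2 ⊕ Fin 2) F)⁻¹ * x * g) *
          (g : GL (Fin 2 ⊕ Fin 2) F)⁻¹ = x := by group
      rwa [h3] at h2

theorem sep_spGL [Finite F] [CharP F 2] (h3 : 3 ≤ Nat.card F) : Sep 5 (spGL 2 F) := by
  obtain ⟨b, hb⟩ := exists_irred (F := F)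
  let H : Fin 5 → Subgroup (GL (Fin 2 ⊕ Fin 2) F) :=
    ![Cfsg.Geo.subspaceStabilizer (W1 F), Cfsg.Geo.subspaceStabilizer (W2 F),
      Cfsg.Geo.decompositionStabilizer (DD F), Cfsg.Geo.quadSimilarityGroup (Qf 0 0),
      Cfsg.Geo.quadSimilarityGroup (Qf 1 b)]
  refine sep_of_coatoms (fun i => (H i ⊓ spGL 2 F).subgroupOf (spGL 2 F)) ?_ ?_
  · intro i
    refine isCoatom_of_max ?_
    fin_cases i
    · exact ti_maximal _ W1_ne W1_ts
    · exact ti_maximal _ W2_ne W2_ts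
    · exact decomp_maximal _ DD_nondeg
    · exact quad_maximal le_rfl (nondeg_Qf 0 0) (polar_Qf 0 0)
    · exact quad_maximal le_rfl (nondeg_Qf 1 b) (polar_Qf 1 b)
  · intro i j hij g hg
    have hc := cj_of_map hg
    fin_cases i <;> fin_cases j
    all_goals first
      | exact absurd hij (by decide)
      | skip
    · exact not_IC_W2 (hc.IC_to g.2 IC_W1)
    · exact not_IB_D (hc.IB_to g.2 IB_W1)
    · exact not_IA_Q h3 0 0 (hc.IA_to g.2 IA_W1)
    · exact not_IA_Q h3 1 b (hc.IA_to g.2 IA_W1)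
    · exact not_IB_D (hc.IB_to g.2 IB_W2)
    · exact not_IA_Q h3 0 0 (hc.IA_to g.2 IA_W2)
    · exact not_IA_Q h3 1 b (hc.IA_to g.2 IA_W2)
    · exact not_IA_Q h3 0 0 (hc.IA_to g.2 IA_D)
    · exact not_IA_Q h3 1 b (hc.IA_to g.2 IA_D)
    · exact not_Cj_Q hb g.2 hc

/-- `Sp` as a subgroup of `GL` -/
noncomputable def eSp (m : ℕ) (F : Type*) [Field F] : Matrix.symplecticGroup (Fin m) F ≃* spGL m F where
  toFun A := ⟨spToGL m F A, fun u v => mem_symplecticGroup_iff.1 A.2 u v⟩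
  invFun g := ⟨((g : GL (Fin m ⊕ Fin m) F) : Matrix (Fin m ⊕ Fin m) (Fin m ⊕ Fin m) F),
    mem_symplecticGroup_iff.2 g.2⟩
  left_inv A := rfl
  right_inv g := by
    apply Subtype.ext
    apply Units.ext
    rfl
  map_mul' A B := by
    apply Subtype.ext
    exact map_mul (spToGL m F) A B

/-- **Five classes of maximal subgroups of `PSp_4(q)`, `q ≥ 4` even.** -/
theorem psp4_even {F : Type*} [Field F] [Fintype F] {k : ℕ} (hk : 2 ≤ k) (hF : Fintype.card F = 2 ^ k) :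
    Sep 5 (PSp 2 F) := by
  have h4 : 4 ≤ Fintype.card F := by
    rw [hF]
    calc 4 = 2 ^ 2 := by norm_num
      _ ≤ 2 ^ k := Nat.pow_le_pow_right (by norm_num) hk
  have hchar : ringChar F = 2 := by
    rw [FiniteField.even_card_iff_char_two, hF, Nat.pow_mod]
    simp only [Nat.mod_self]
    rw [Nat.zero_pow (by omega)]
  have : CharP F 2 := by rw [← hchar]; infer_instance
  have h1 : Sep 5 (Matrix.symplecticGroup (Fin 2) F) :=
    (sep_spGL (by rw [Nat.card_eq_fintype_card]; omega)).of_mulEquiv (eSp 2 F).symm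
  refine h1.map_surj (f := QuotientGroup.mk' (Subgroup.center (Matrix.symplecticGroup (Fin 2) F)))
    (QuotientGroup.mk'_surjective _) (by rw [QuotientGroup.ker_mk']) ?_
  exact Cfsg.Agent.LieClassical.SympPerfect.commutator_eq_top (Or.inr (Or.inl ⟨rfl, by omega⟩))

end Cfsg.Agent.H889.SepSp
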